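import Mathlib
import Cfsg.Agent.Transitivity.OrderFormula
import Cfsg.Agent.HallHigman.CyclicQuotient
import Cfsg.Agent.LocalEven50.CentralizerLarge

/-!
Coprime actions of elementary abelian groups: index form of the order formula, and counting in
abelian groups.
-/

set_option autoImplicit false
set_option linter.style.haveILetI false
set_option linter.unusedSectionVars false

namespace CfsgLib.RankThreeCommutator

open Subgroup

variable {X : Type*} [Group X] [Finite X]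

theorem card_mul_of_comm {A H K : Subgroup X} (hA : ∀ a ∈ A, ∀ b ∈ A, a * b = b * a)
    (hH : H ≤ A) (hK : K ≤ A) :
    Nat.card ↥(H ⊔ K) * Nat.card ↥(H ⊓ K) = Nat.card H * Nat.card K := by
  refine LocalEven50.card_sup_mul_card_inf_of_coe H K (Subgroup.coe_mul_of_right_le_normalizer_left H K fun k hk => ?_)
  exact centralizer_le_normalizer _ (mem_centralizer_iff.2 fun h hh => hA h (hH hh) k (hK hk))

theorem relIndex_mul_card_inf (D L : Subgroup X) :
    D.relIndex L * Nat.card ↥(D ⊓ L) = Nat.card L := by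
  rw [← inf_relIndex_right, relIndex, mul_comm,
    ← Nat.card_congr (subgroupOfEquivOfLe (inf_le_right : D ⊓ L ≤ L)).toEquiv, card_mul_index]

/-- Index form of the order formula. -/
theorem relIndex_le_pow {q : ℕ} [Fact q.Prime] {E K D : Subgroup X}
    (hE : Cfsg.IsElementaryAbelian q E) (hcard : Nat.card E = q ^ 2)
    (hEK : E ≤ normalizer (K : Set X)) (hED : E ≤ normalizer (D : Set X))
    (hK : ¬ q ∣ Nat.card K) (hDK : D ≤ K) {J : ℕ}
    (hJ : ∀ Z : Subgroup X, Z ≤ E → Nat.card Z = q →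
      D.relIndex (K ⊓ centralizer (Z : Set X)) ≤ J) :
    D.relIndex K ≤ J ^ (q + 1) := by
  classical
  haveI := Fintype.ofFinite (Subgroup E)
  haveI := Fintype.ofFinite E
  have hD : ¬ q ∣ Nat.card D := fun h => hK (h.trans (card_dvd_of_le hDK))
  have h1 := Transitivity.card_mul_pow_eq_prod hE hcard hEK hK
  have h2 := Transitivity.card_mul_pow_eq_prod hE hcard hED hD
  simp only [Transitivity.LineFormula] at h1 h2
  set L := Finset.univ.filter (fun Z : Subgroup E => Nat.card Z = q)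
  let C : Subgroup E → Subgroup X := fun Z => centralizer ((Z.map E.subtype : Subgroup X) : Set X)
  have hbot : C ⊥ = ⊤ := top_unique fun x _ => mem_centralizer_iff.2 fun y hy => by
    obtain ⟨z, hz, rfl⟩ := hy
    rw [SetLike.mem_coe, mem_bot] at hz
    simp [hz]
  have hterm : ∀ Z : Subgroup E, Nat.card ↥(K ⊓ C Z) = D.relIndex (K ⊓ C Z) * Nat.card ↥(D ⊓ C Z) := by
    intro Z
    rw [← relIndex_mul_card_inf D (K ⊓ C Z), ← inf_assoc, inf_eq_left.2 hDK]
  have hprod : ∏ Z ∈ L, Nat.card ↥(K ⊓ C Z) =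
      (∏ Z ∈ L, D.relIndex (K ⊓ C Z)) * ∏ Z ∈ L, Nat.card ↥(D ⊓ C Z) := by
    rw [← Finset.prod_mul_distrib]
    exact Finset.prod_congr rfl fun Z _ => hterm Z
  change Nat.card ↥(K ⊓ C ⊥) * Nat.card ↥(K ⊓ C ⊤) ^ _ = ∏ Z ∈ L, Nat.card ↥(K ⊓ C Z) at h1
  change Nat.card ↥(D ⊓ C ⊥) * Nat.card ↥(D ⊓ C ⊤) ^ _ = ∏ Z ∈ L, Nat.card ↥(D ⊓ C Z) at h2
  rw [hbot, inf_top_eq] at h1 h2
  have hle : Nat.card ↥(D ⊓ C ⊤) ^ (L.card - 1) ≤ Nat.card ↥(K ⊓ C ⊤) ^ (L.card - 1) :=
    Nat.pow_le_pow_left (card_le_of_le (inf_le_inf_right _ hDK)) _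
  have hcardL : L.card = q + 1 := Transitivity.card_lines (fun a => Subtype.ext (by
    simpa using hE.2 a a.2)) hcard
  have hKD : Nat.card K = D.relIndex K * Nat.card D := by
    rw [← relIndex_mul_card_inf D K, inf_eq_left.2 hDK]
  have hfin : D.relIndex K ≤ ∏ Z ∈ L, D.relIndex (K ⊓ C Z) := by
    refine Nat.le_of_mul_le_mul_right ?_
      (Nat.mul_pos (Nat.card_pos (α := D)) (pow_pos (Nat.card_pos (α := ↥(D ⊓ C ⊤))) (L.card - 1)))
    calc D.relIndex K * (Nat.card D * Nat.card ↥(D ⊓ C ⊤) ^ (L.card - 1))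
        ≤ D.relIndex K * (Nat.card D * Nat.card ↥(K ⊓ C ⊤) ^ (L.card - 1)) :=
          Nat.mul_le_mul_left _ (Nat.mul_le_mul_left _ hle)
      _ = Nat.card K * Nat.card ↥(K ⊓ C ⊤) ^ (L.card - 1) := by rw [hKD]; ring
      _ = (∏ Z ∈ L, D.relIndex (K ⊓ C Z)) *
          (Nat.card D * Nat.card ↥(D ⊓ C ⊤) ^ (L.card - 1)) := by rw [h1, hprod, h2]
  refine hfin.trans ((Finset.prod_le_pow_card _ _ J fun Z hZ => ?_).trans (by rw [hcardL]))
  refine hJ _ (map_subtype_le _) ?_
  rw [card_map_of_injective E.subtype_injective]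
  exact (Finset.mem_filter.1 hZ).2

end CfsgLib.RankThreeCommutator
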