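import Mathlib
import Cfsg.Agent.RankThreeCommutator.Basic

/-!
An elementary abelian group of order `q ^ 3` acting coprimely: the derived subgroup is bounded in
terms of the derived subgroups of the centralisers.

Any two hyperplanes meet nontrivially, so the commutator of two hyperplane centralisers lies in
the derived subgroup of some `C(a)`; hence these derived subgroups generate the derived subgroup
`M`, the centraliser of `M` has bounded index, and Schur's theorem applies.
-/

set_option autoImplicit false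
set_option linter.style.haveILetI false
set_option linter.unusedSectionVars false

open scoped commutatorElement

namespace CfsgLib.RankThreeCommutator

open Subgroup

/-- Bound for the index of the centraliser of the derived subgroup. -/
def indexBound (q m : ℕ) : ℕ :=
  (((q ^ 3 * m + 1) ^ (q ^ 3 * m + 1)) ^ (q + 1)) ^ (q + 1)

/-- Bound for the derived subgroup. -/
def derivedBound (q m : ℕ) : ℕ :=
  (m.factorial + 1) ^ (q ^ 3 * m) *
    (Finset.range (indexBound q m ^ 2 + 1)).sup cardCommutatorBound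

variable {X : Type*} [Group X] [Finite X]

/-- A group with central index at most `J` generated by `N` elements of orders at most `m`. -/
theorem card_le_of_index_center {M : Type*} [Group M] [Finite M] (S : Finset M)
    (hS : closure (S : Set M) = ⊤) {N m J : ℕ} (hN : S.card ≤ N)
    (hm : ∀ s ∈ S, orderOf s ≤ m) (hJ : (center M).index ≤ J) :
    Nat.card M ≤ (m.factorial + 1) ^ N * (Finset.range (J ^ 2 + 1)).sup cardCommutatorBound := by
  classical
  have h1 : Nat.card (commutatorSet M) ≤ J ^ 2 := by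
    refine le_trans ?_ (Nat.pow_le_pow_left hJ 2)
    rw [sq, index_eq_card, ← Nat.card_prod]
    refine Nat.card_le_card_of_surjective
      (fun x : (M ⧸ center M) × (M ⧸ center M) => (⟨⁅x.1.out, x.2.out⁆, ⟨_, _, rfl⟩⟩ : commutatorSet M)) ?_
    rintro ⟨_, a, b, rfl⟩
    refine ⟨(a, b), Subtype.ext ?_⟩
    show ⁅(a : M ⧸ center M).out, (b : M ⧸ center M).out⁆ = ⁅a, b⁆
    obtain ⟨z, hz⟩ := QuotientGroup.mk_out_eq_mul (center M) a
    obtain ⟨w, hw⟩ := QuotientGroup.mk_out_eq_mul (center M) b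
    rw [hz, hw, commutatorElement_def, commutatorElement_def]
    have hz' := mem_center_iff.1 z.2
    have hw' := mem_center_iff.1 w.2
    calc a * z * (b * w) * (a * z)⁻¹ * (b * w)⁻¹
        = a * (z * (b * w) * (z : M)⁻¹) * a⁻¹ * (w : M)⁻¹ * b⁻¹ := by group
      _ = a * (b * w * a⁻¹ * (w : M)⁻¹) * b⁻¹ := by rw [← hz' (b * w)]; group
      _ = a * (b * (a⁻¹ * w) * (w : M)⁻¹) * b⁻¹ := by rw [hw' a⁻¹]; group
      _ = a * b * a⁻¹ * b⁻¹ := by group
  have h2 : Nat.card (commutator M) ≤ (Finset.range (J ^ 2 + 1)).sup cardCommutatorBound :=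
    (Subgroup.card_commutator_le_of_finite_commutatorSet M).trans
      (Finset.le_sup (f := cardCommutatorBound) (Finset.mem_range.2 (Nat.lt_succ_of_le h1)))
  have hT : closure ((S.image (Abelianization.of (G := M))) : Set (Abelianization M)) = ⊤ := by
    rw [Finset.coe_image, ← MonoidHom.map_closure, hS, ← MonoidHom.range_eq_map,
      MonoidHom.range_eq_top]
    exact QuotientGroup.mk_surjective
  have hexp : ∀ g : Abelianization M, g ^ m.factorial = 1 := by
    intro g
    have hle : closure ((S.image (Abelianization.of (G := M))) : Set (Abelianization M)) ≤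
        (powMonoidHom m.factorial : Abelianization M →* Abelianization M).ker := by
      rw [closure_le]
      intro x hx
      obtain ⟨s, hs, rfl⟩ := Finset.mem_image.1 hx
      show Abelianization.of s ^ m.factorial = 1
      rw [← map_pow, orderOf_dvd_iff_pow_eq_one.1
        (Nat.dvd_factorial (orderOf_pos s) (hm s hs)), map_one]
    rw [hT] at hle
    exact hle (mem_top g)
  have h3 : Nat.card (Abelianization M) ≤ (m.factorial + 1) ^ N := by
    refine (Nat.le_of_dvd (pow_pos m.factorial_pos _)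
      (card_dvd_exponent_pow_rank' (Abelianization M) hexp)).trans ?_
    refine (Nat.pow_le_pow_left (Nat.le_succ _) _).trans (Nat.pow_le_pow_right (Nat.succ_pos _) ?_)
    exact (Group.rank_le hT).trans (Finset.card_image_le.trans hN)
  rw [card_eq_card_quotient_mul_card_subgroup (commutator M)]
  exact Nat.mul_le_mul h3 h2

/-- The main bound. -/
theorem card_commutator_le {q m : ℕ} [Fact q.Prime] {A L : Subgroup X}
    (hA : Cfsg.IsElementaryAbelian q A) (hcard : Nat.card A = q ^ 3)
    (hAL : A ≤ normalizer (L : Set X)) (hcop : ¬ q ∣ Nat.card L)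
    (hm : ∀ a ∈ A, a ≠ 1 →
      Nat.card ↥⁅L ⊓ centralizer {a}, L ⊓ centralizer {a}⁆ ≤ m) :
    Nat.card ↥⁅L, L⁆ ≤ derivedBound q m := by
  classical
  cases nonempty_fintype X
  have hq := (Fact.out : q.Prime)
  have hAc : ∀ a ∈ A, ∀ b ∈ A, a * b = b * a := fun a ha b hb =>
    congrArg Subtype.val (hA.1.is_comm.comm ⟨a, ha⟩ ⟨b, hb⟩)
  have hsub : ∀ {B : Subgroup X}, B ≤ A → B ≤ normalizer (L : Set X) := fun h => h.trans hAL
  have horder : ∀ a ∈ A, orderOf a ≤ q := fun a ha =>
    Nat.le_of_dvd hq.pos (orderOf_dvd_of_pow_eq_one (hA.2 a ha))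
  have hcopA : ∀ {B K : Subgroup X}, B ≤ A → K ≤ L → (Nat.card B).Coprime (Nat.card K) :=
    fun hB hK => Nat.Coprime.coprime_dvd_left (card_dvd_of_le hB)
      (Nat.Coprime.coprime_dvd_right (card_dvd_of_le hK)
        (by rw [hcard]; exact Nat.Coprime.pow_left 3 (hq.coprime_iff_not_dvd.2 hcop)))
  -- large subgroups of `A`
  have hmeet : ∀ B B' : Subgroup X, B ≤ A → B' ≤ A → q ^ 2 ≤ Nat.card B → q ^ 2 ≤ Nat.card B' →
      ∃ a ∈ B ⊓ B', a ≠ 1 := by
    intro B B' hB hB' h h'
    by_contra hne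
    have hbot : B ⊓ B' = ⊥ := (eq_bot_iff_forall _).2 fun a ha => by
      by_contra h1; exact hne ⟨a, ha, h1⟩
    have h1 := card_mul_of_comm hAc hB hB'
    rw [hbot, card_bot, mul_one] at h1
    have h2 : Nat.card ↥(B ⊔ B') ≤ q ^ 3 := hcard ▸ card_le_of_le (sup_le hB hB')
    have h3 := (Nat.mul_le_mul h h').trans (h1.symm.le.trans h2)
    rw [← pow_add] at h3
    exact absurd ((Nat.pow_le_pow_iff_right hq.one_lt).1 h3) (by omega)
  let Cd : X → Subgroup X := fun a => ⁅L ⊓ centralizer {a}, L ⊓ centralizer {a}⁆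
  have hCdL : ∀ a, Cd a ≤ L := fun a => (commutator_le_self _).trans inf_le_left
  let U : Set X := {u | ∃ a ∈ A, a ≠ 1 ∧ u ∈ Cd a}
  have hUL : U ⊆ L := fun u ⟨a, _, _, hu⟩ => hCdL a hu
  have hUcard : Nat.card U ≤ q ^ 3 * m := by
    let As : Finset X := Finset.univ.filter fun a => a ∈ A ∧ a ≠ 1
    have hsubset : U.toFinset ⊆ As.biUnion fun a => (Cd a : Set X).toFinset := fun u hu => by
      obtain ⟨a, ha, ha1, hu⟩ := Set.mem_toFinset.1 hu
      exact Finset.mem_biUnion.2 ⟨a, by simp [As, ha, ha1], Set.mem_toFinset.2 hu⟩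
    have hAs : As.card ≤ q ^ 3 := by
      rw [← hcard, Nat.card_eq_fintype_card, Fintype.card_subtype]
      exact Finset.card_le_card fun a ha => by simp_all [As]
    rw [Nat.card_eq_fintype_card, ← Set.toFinset_card]
    refine (Finset.card_le_card hsubset).trans (Finset.card_biUnion_le.trans ?_)
    refine (Finset.sum_le_card_nsmul _ _ m fun a ha => ?_).trans (by
      rw [smul_eq_mul]; exact Nat.mul_le_mul_right m hAs)
    obtain ⟨-, ha', ha1⟩ := Finset.mem_filter.1 ha
    rw [Set.toFinset_card, ← Nat.card_eq_fintype_card]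
    exact hm a ha' ha1
  have hcomm : ∀ B B' : Subgroup X, B ≤ A → B' ≤ A → q ^ 2 ≤ Nat.card B → q ^ 2 ≤ Nat.card B' →
      ∀ x ∈ L ⊓ centralizer (B : Set X), ∀ y ∈ L ⊓ centralizer (B' : Set X), ⁅x, y⁆ ∈ U := by
    intro B B' hB hB' h h' x hx y hy
    obtain ⟨a, ha, ha1⟩ := hmeet B B' hB hB' h h'
    refine ⟨a, hB ha.1, ha1, commutator_mem_commutator ?_ ?_⟩
    · exact ⟨hx.1, mem_centralizer_singleton_iff.2 ((mem_centralizer_iff.1 hx.2) a ha.1).symm⟩
    · exact ⟨hy.1, mem_centralizer_singleton_iff.2 ((mem_centralizer_iff.1 hy.2) a ha.2).symm⟩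
  -- generation
  have hgen : ∀ {K W : Subgroup X}, A ≤ normalizer (K : Set X) → K ≤ L →
      (∀ B : Subgroup X, B ≤ A → q ^ 2 ≤ Nat.card B → K ⊓ centralizer (B : Set X) ≤ W) → K ≤ W := by
    intro K W hK hKL hW
    refine HallHigman.le_of_forall_cyclic_quotient hA.1 hK (hcopA le_rfl hKL) ?_
    rintro B hB ⟨a, ha, hsup⟩
    refine hW B hB ?_
    have h1 := card_mul_of_comm hAc hB (zpowers_le.2 ha)
    rw [hsup, hcard, Nat.card_zpowers] at h1
    have h2 : q ^ 3 ≤ Nat.card B * q := (Nat.le_mul_of_pos_right _ Nat.card_pos).trans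
      (h1.le.trans (Nat.mul_le_mul_left _ (horder a ha)))
    rw [pow_succ] at h2
    exact Nat.le_of_mul_le_mul_right h2 hq.pos
  let M : Subgroup X := closure U
  have hCdM : ∀ a ∈ A, a ≠ 1 → Cd a ≤ M := fun a ha h1 u hu => subset_closure ⟨a, ha, h1, hu⟩
  have hCdA : ∀ a ∈ A, A ≤ normalizer (Cd a : Set X) := by
    intro a ha
    have hCa : A ≤ normalizer ((centralizer ({a} : Set X) : Subgroup X) : Set X) := fun b hb =>
      le_normalizer (mem_centralizer_singleton_iff.2 (hAc b hb a ha))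
    intro b hb
    have hN := ((le_inf hAL hCa).trans inf_normalizer_le_normalizer_inf) hb
    rw [mem_normalizer_iff_map_conj_eq] at hN ⊢
    rw [map_commutator, hN]
  have hnormM : L ≤ normalizer (M : Set X) := by
    refine hgen hAL le_rfl fun B hB h z hz => ?_
    have hmap : M.map (MulAut.conj z).toMonoidHom ≤ M := by
      rw [map_le_iff_le_comap, closure_le]
      rintro u ⟨a, ha, ha1, hu⟩
      refine (hgen (W := M.comap (MulAut.conj z).toMonoidHom) (hCdA a ha) (hCdL a) ?_) hu
      intro B' hB' h' t ht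
      show z * t * z⁻¹ ∈ M
      rw [show z * t * z⁻¹ = ⁅z, t⁆ * t by rw [commutatorElement_def]; group]
      exact M.mul_mem (subset_closure (hcomm B B' hB hB' h h' z hz t ⟨hCdL a ht.1, ht.2⟩))
        (hCdM a ha ha1 ht.1)
    rw [mem_normalizer_iff_map_conj_eq]
    exact eq_of_le_of_card_ge hmap
      (card_map_of_injective (f := (MulAut.conj z).toMonoidHom) (MulAut.conj z).injective).ge
  have hLM : ⁅L, L⁆ = M := by
    refine le_antisymm (commutator_le.2 ?_) ?_
    swap
    · rw [closure_le]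
      rintro u ⟨a, -, -, hu⟩
      exact commutator_mono inf_le_left inf_le_left hu
    have step : ∀ {x : X}, x ∈ L → (∀ B : Subgroup X, B ≤ A → q ^ 2 ≤ Nat.card B →
        ∀ y ∈ L ⊓ centralizer (B : Set X), ⁅x, y⁆ ∈ M) → ∀ y ∈ L, ⁅x, y⁆ ∈ M := by
      intro x hx hxy y hy
      let S : Subgroup X :=
        { carrier := {y | y ∈ L ∧ ⁅x, y⁆ ∈ M}
          one_mem' := ⟨one_mem _, by rw [commutatorElement_one_right]; exact one_mem _⟩
          mul_mem' := fun {a b} ha hb => ⟨mul_mem ha.1 hb.1, by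
            rw [show ⁅x, a * b⁆ = ⁅x, a⁆ * (a * ⁅x, b⁆ * a⁻¹) by
              simp only [commutatorElement_def]; group]
            exact mul_mem ha.2 ((mem_normalizer_iff.1 (hnormM ha.1) _).1 hb.2)⟩
          inv_mem' := fun {a} ha => ⟨inv_mem ha.1, by
            rw [show ⁅x, a⁻¹⁆ = a⁻¹ * ⁅x, a⁆⁻¹ * a⁻¹⁻¹ by
              simp only [commutatorElement_def]; group]
            exact (mem_normalizer_iff.1 (hnormM (inv_mem ha.1)) _).1 (inv_mem ha.2)⟩ }
      exact ((hgen (W := S) hAL le_rfl fun B hB h y hy => ⟨hy.1, hxy B hB h y hy⟩) hy).2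
    intro x hx y hy
    refine step hx (fun B hB h y hy => ?_) y hy
    rw [← commutatorElement_inv]
    exact inv_mem (step hy.1 (fun B' hB' h' z hz => subset_closure (hcomm B B' hB hB' h h' y hy z hz))
      x hx)
  -- generators with bounded classes
  let T : Set X := {t | t ∈ U ∧ ∃ B : Subgroup X, B ≤ A ∧ q ^ 2 ≤ Nat.card B ∧
    t ∈ L ⊓ centralizer (B : Set X)}
  have hTM : M ≤ closure T := by
    rw [closure_le]
    rintro u ⟨a, ha, ha1, hu⟩
    refine (hgen (W := closure T) (hCdA a ha) (hCdL a) ?_) hu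
    exact fun B hB h t ht => subset_closure ⟨⟨a, ha, ha1, ht.1⟩, B, hB, h, hCdL a ht.1, ht.2⟩
  set R := (q ^ 3 * m + 1) ^ (q ^ 3 * m + 1) with hR
  set D := L ⊓ centralizer (M : Set X) with hD
  have hAM : A ≤ normalizer (M : Set X) := by
    intro b hb
    have hLb := mem_normalizer_iff_map_conj_eq.1 (hAL hb)
    rw [← hLM, mem_normalizer_iff_map_conj_eq, map_commutator, hLb]
  have hAD : A ≤ normalizer (D : Set X) := by
    refine (le_inf hAL ?_).trans inf_normalizer_le_normalizer_inf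
    refine fun b hb => mem_normalizer_iff.2 fun x => ?_
    have key : ∀ {b : X}, b ∈ A → ∀ x, x ∈ centralizer (M : Set X) →
        b * x * b⁻¹ ∈ centralizer (M : Set X) := by
      intro b hb x hx
      rw [mem_centralizer_iff] at hx ⊢
      intro y hy
      have h1 := hx _ ((mem_normalizer_iff''.1 (hAM hb) y).1 hy)
      calc y * (b * x * b⁻¹) = b * ((b⁻¹ * y * b) * x) * b⁻¹ := by group
        _ = b * (x * (b⁻¹ * y * b)) * b⁻¹ := by rw [h1]
        _ = b * x * b⁻¹ * y := by group
    exact ⟨key hb x, fun h => by simpa [mul_assoc] using key (inv_mem hb) _ h⟩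
  have hbase : ∀ B : Subgroup X, B ≤ A → q ^ 2 ≤ Nat.card B →
      D.relIndex (L ⊓ centralizer (B : Set X)) ≤ R := by
    intro B hB h
    set H := L ⊓ centralizer (B : Set X)
    have hT' : ∀ t : T, ∀ h' : H, ⁅(h' : X), (t : X)⁆ ∈ U := fun ⟨t, _, B', hB', h'', ht⟩ x =>
      hcomm B B' hB hB' h h'' x x.2 t ht
    have hinj : Function.Injective (fun c : H ⧸ D.subgroupOf H => fun t : T =>
        (⟨⁅(c.out : X), (t : X)⁆, hT' t c.out⟩ : U)) := by
      intro c d hcd
      rw [← c.out_eq, ← d.out_eq]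
      refine QuotientGroup.eq.2 ?_
      rw [mem_subgroupOf]
      refine ⟨(c.out⁻¹ * d.out).2.1, ?_⟩
      refine mem_centralizer_iff.2 ?_
      intro y hy
      have hle : closure T ≤ centralizer ({((c.out⁻¹ * d.out : H) : X)} : Set X) := by
        rw [closure_le]
        intro t ht
        rw [SetLike.mem_coe, mem_centralizer_singleton_iff]
        have e : ⁅(c.out : X), t⁆ = ⁅(d.out : X), t⁆ := congrArg Subtype.val (congrFun hcd ⟨t, ht⟩)
        rw [commutatorElement_def, commutatorElement_def] at e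
        have e' := mul_right_cancel e
        rw [Subgroup.coe_mul, Subgroup.coe_inv]
        calc t * ((c.out : X)⁻¹ * d.out)
            = (c.out : X)⁻¹ * ((c.out : X) * t * (c.out : X)⁻¹) * d.out := by group
          _ = (c.out : X)⁻¹ * ((d.out : X) * t * (d.out : X)⁻¹) * d.out := by rw [e']
          _ = (c.out : X)⁻¹ * d.out * t := by group
      exact mem_centralizer_singleton_iff.1 (hle (hTM hy))
    rw [relIndex, index_eq_card]
    refine (Nat.card_le_card_of_injective _ hinj).trans ?_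
    rw [Nat.card_fun, hR]
    have hT2 : Nat.card T ≤ q ^ 3 * m :=
      (Nat.card_mono (Set.toFinite U) fun t ht => ht.1).trans hUcard
    exact (Nat.pow_le_pow_left (hUcard.trans (Nat.le_succ _)) _).trans
      (Nat.pow_le_pow_right (Nat.succ_pos _) (hT2.trans (Nat.le_succ _)))
  -- complements and the order formula
  have hsmall : ∀ Z : Subgroup X, Z ≤ A → Nat.card Z = q →
      ∃ E : Subgroup X, E ≤ A ∧ Nat.card E = q ^ 2 ∧ Z ⊓ E = ⊥ := by
    intro Z hZ hZc
    have hex : ∀ K : Subgroup X, K ≤ A → Nat.card K < q ^ 3 → ∃ x ∈ A, x ∉ K := by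
      intro K hK hc
      by_contra hne
      exact absurd (card_le_of_le (show A ≤ K from fun x hx => by
        by_contra h1; exact hne ⟨x, hx, h1⟩)) (by omega)
    have hq1 : q < q ^ 3 := by simpa using Nat.pow_lt_pow_right hq.one_lt (show 1 < 3 by omega)
    have hle : ∀ K : Subgroup X, K ≤ A → ∀ x ∈ A,
        Nat.card ↥(K ⊔ zpowers x) ≤ Nat.card K * q := fun K hK x hx =>
      (Nat.le_mul_of_pos_right _ Nat.card_pos).trans ((card_mul_of_comm hAc hK (zpowers_le.2 hx)).le.trans
        (Nat.mul_le_mul_left _ (by rw [Nat.card_zpowers]; exact horder x hx)))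
    obtain ⟨x, hx, hxZ⟩ := hex Z hZ (hZc ▸ hq1)
    have hZx : Nat.card ↥(Z ⊔ zpowers x) < q ^ 3 := by
      refine (hle Z hZ x hx).trans_lt ?_
      rw [hZc, ← pow_two]
      exact Nat.pow_lt_pow_right hq.one_lt (by omega)
    obtain ⟨y, hy, hyZ⟩ := hex _ (sup_le hZ (zpowers_le.2 hx)) hZx
    set E := zpowers x ⊔ zpowers y with hE
    have hEA : E ≤ A := sup_le (zpowers_le.2 hx) (zpowers_le.2 hy)
    have hEle : Nat.card E ≤ q ^ 2 := (hle _ (zpowers_le.2 hx) y hy).trans (by
      rw [pow_two, Nat.card_zpowers]; exact Nat.mul_le_mul_right _ (horder x hx))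
    have hlt1 : Nat.card Z < Nat.card ↥(Z ⊔ zpowers x) := by
      by_contra hge
      exact hxZ ((eq_of_le_of_card_ge le_sup_left (not_lt.1 hge)).ge
        (mem_sup_right (mem_zpowers x)))
    have hlt2 : Nat.card ↥(Z ⊔ zpowers x) < Nat.card ↥(Z ⊔ E) := by
      by_contra hge
      exact hyZ ((eq_of_le_of_card_ge (sup_le_sup_left le_sup_left Z) (not_lt.1 hge)).ge
        (mem_sup_right (mem_sup_right (mem_zpowers y))))
    obtain ⟨k, hk, hk'⟩ := (Nat.dvd_prime_pow hq).1
      (hcard ▸ card_dvd_of_le (sup_le hZ hEA : Z ⊔ E ≤ A))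
    obtain ⟨j, hj, hj'⟩ := (Nat.dvd_prime_pow hq).1
      (hcard ▸ card_dvd_of_le (sup_le hZ (zpowers_le.2 hx) : Z ⊔ zpowers x ≤ A))
    rw [hj', hZc] at hlt1
    rw [hj', hk'] at hlt2
    have hj2 : 1 < j := (Nat.pow_lt_pow_iff_right hq.one_lt).1 (by simpa using hlt1)
    have hk3 : k = 3 := by have := (Nat.pow_lt_pow_iff_right hq.one_lt).1 hlt2; omega
    subst hk3
    have h1 := card_mul_of_comm hAc hZ hEA
    rw [hk', hZc] at h1
    have h2 : q ^ 3 * Nat.card ↥(Z ⊓ E) ≤ q ^ 3 := h1.le.trans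
      (by rw [pow_succ' q 2]; exact Nat.mul_le_mul_left q hEle)
    have h3 : Nat.card ↥(Z ⊓ E) = 1 := le_antisymm
      (Nat.le_of_mul_le_mul_left (by simpa using h2) (pow_pos hq.pos 3)) Nat.card_pos
    refine ⟨E, hEA, ?_, eq_bot_of_card_eq _ h3⟩
    rw [h3, mul_one, pow_succ' q 2] at h1
    exact (Nat.eq_of_mul_eq_mul_left hq.pos h1).symm
  have helab : ∀ {E : Subgroup X}, E ≤ A → Cfsg.IsElementaryAbelian q E := fun hE =>
    ⟨⟨⟨fun a b => Subtype.ext (hAc a (hE a.2) b (hE b.2))⟩⟩, fun a ha => hA.2 a (hE ha)⟩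
  have hline : ∀ Z : Subgroup X, Z ≤ A → Nat.card Z = q →
      D.relIndex (L ⊓ centralizer (Z : Set X)) ≤ R ^ (q + 1) := by
    intro Z hZ hZc
    obtain ⟨E, hE, hEc, hZE⟩ := hsmall Z hZ hZc
    set K := L ⊓ centralizer (Z : Set X)
    have hEC : E ≤ normalizer ((centralizer (Z : Set X) : Subgroup X) : Set X) := fun e he =>
      le_normalizer (mem_centralizer_iff.2 fun z hz => hAc z (hZ hz) e (hE he))
    have hEK : E ≤ normalizer (K : Set X) :=
      (le_inf (hsub hE) hEC).trans inf_normalizer_le_normalizer_inf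
    rw [show D.relIndex K = (D ⊓ K).relIndex K by rw [inf_relIndex_right]]
    refine relIndex_le_pow (helab hE) hEc hEK
      ((le_inf (hE.trans hAD) hEK).trans inf_normalizer_le_normalizer_inf)
      (fun h => hcop (h.trans (card_dvd_of_le inf_le_left))) inf_le_right fun Z' hZ' hZ'c => ?_
    have hBq : q ^ 2 ≤ Nat.card ↥(Z ⊔ Z') := by
      have h1 := card_mul_of_comm hAc hZ (hZ'.trans hE)
      rw [show Z ⊓ Z' = ⊥ from le_bot_iff.1 ((inf_le_inf_left Z hZ').trans hZE.le), card_bot,
        mul_one, hZc, hZ'c] at h1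
      rw [pow_two, h1]
    refine le_trans (le_of_eq ?_) (hbase _ (sup_le hZ (hZ'.trans hE)) hBq)
    have he : K ⊓ centralizer (Z' : Set X) = L ⊓ centralizer ((Z ⊔ Z' : Subgroup X) : Set X) := by
      ext g
      simp only [K, mem_inf]
      rw [sup_eq_closure, centralizer_closure]
      simp only [mem_centralizer_iff, Set.mem_union]
      exact ⟨fun h => ⟨h.1.1, fun y hy => hy.elim (h.1.2 y) (h.2 y)⟩,
        fun h => ⟨⟨h.1, fun y hy => h.2 y (Or.inl hy)⟩, fun y hy => h.2 y (Or.inr hy)⟩⟩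
    rw [← inf_relIndex_right (D ⊓ K), ← inf_relIndex_right D (L ⊓ _), ← he, inf_assoc,
      ← inf_assoc K K, inf_idem]
  have hindex : D.relIndex L ≤ indexBound q m := by
    have hne : ∃ Z : Subgroup X, Z ≤ A ∧ Nat.card Z = q := by
      obtain ⟨a, ha, ha1⟩ : ∃ a ∈ A, a ≠ 1 := by
        by_contra hne
        have : A = ⊥ := (eq_bot_iff_forall _).2 fun a ha => by
          by_contra h1; exact hne ⟨a, ha, h1⟩
        rw [this, card_bot] at hcard
        exact absurd hcard.symm (Nat.one_lt_pow (by omega) hq.one_lt).ne'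
      exact ⟨zpowers a, zpowers_le.2 ha, by
        rw [Nat.card_zpowers]; exact orderOf_eq_prime (hA.2 a ha) ha1⟩
    obtain ⟨Z, hZ, hZc⟩ := hne
    obtain ⟨E, hE, hEc, -⟩ := hsmall Z hZ hZc
    exact relIndex_le_pow (helab hE) hEc (hsub hE) (hE.trans hAD) hcop inf_le_left
      fun Z' hZ' hZ'c => hline Z' (hZ'.trans hE) hZ'c
  -- Schur
  have hML : M ≤ L := (closure_le L).2 hUL
  have hcenter : (center M).index ≤ indexBound q m := by
    refine le_trans (Nat.le_of_dvd (Nat.pos_of_ne_zero (index_ne_zero_of_finite)) ?_)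
      (le_trans (relIndex_le_of_le_right hML (index_ne_zero_of_finite)) hindex)
    refine index_dvd_of_le fun x hx => mem_center_iff.2 fun y => Subtype.ext ?_
    exact ((mem_centralizer_iff.1 (mem_subgroupOf.1 hx).2) y y.2)
  rw [hLM]
  refine card_le_of_index_center (U.toFinset.subtype (· ∈ M)) ?_ ?_ ?_ hcenter
  · rw [eq_top_iff]
    rintro ⟨x, hx⟩ -
    have hle : M ≤ (closure ((U.toFinset.subtype (· ∈ M) : Finset M) : Set M)).map M.subtype := by
      refine (closure_le _).2 fun u hu => ⟨⟨u, subset_closure hu⟩, subset_closure ?_, rfl⟩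
      simp [hu]
    obtain ⟨y, hy, hyx⟩ := hle hx
    rwa [show (⟨x, hx⟩ : M) = y from Subtype.ext hyx.symm]
  · rw [Finset.card_subtype]
    exact (Finset.card_filter_le _ _).trans (by
      rw [Set.toFinset_card, ← Nat.card_eq_fintype_card]; exact hUcard)
  · intro s hs
    rw [← Subgroup.orderOf_coe]
    obtain ⟨a, ha, ha1, hu⟩ : (s : X) ∈ U := by simpa using hs
    exact (Nat.le_of_dvd Nat.card_pos (orderOf_dvd_natCard _ hu)).trans (hm a ha ha1)

end CfsgLib.RankThreeCommutator
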